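import Mathlib

set_option linter.unusedSectionVars false
set_option linter.unusedVariables false
set_option linter.unusedSimpArgs false
set_option autoImplicit false
set_option linter.style.haveILetI false
set_option maxHeartbeats 400000

/-!
# Finite Frobenius height ⟺ finite with connected geometric fibres (helper6)

Only the augmentation `ε : A →ₐ[R] R` is used.
-/

universe u

open TensorProduct

namespace Groth.Agent.Lib.Helper6.FrobHt

section Fwd

variable {R : Type u} [CommRing R] {A : Type u} [CommRing A] [Algebra R A] (ε : A →ₐ[R] R)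

theorem sub_mem_ker (a : A) : ε (a - algebraMap R A (ε a)) = 0 := by
  rw [map_sub, AlgHom.commutes]
  exact sub_self _

include ε in
theorem isIntegral_of_nil (h : ∀ a : A, ε a = 0 → IsNilpotent a) : Algebra.IsIntegral R A := by
  constructor
  intro a
  have h1 : a = algebraMap R A (ε a) + (a - algebraMap R A (ε a)) := by ring
  rw [h1]
  obtain ⟨N, hN⟩ := h _ (sub_mem_ker ε a)
  refine IsIntegral.add isIntegral_algebraMap ⟨Polynomial.X ^ N, Polynomial.monic_X_pow N, ?_⟩
  simp [hN]

include ε in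
theorem finite_of_nil [Algebra.FiniteType R A] (h : ∀ a : A, ε a = 0 → IsNilpotent a) :
    Module.Finite R A := by
  haveI := isIntegral_of_nil ε h
  exact Algebra.IsIntegral.finite

variable (K : Type u) [Field K] [Algebra R K]

/-- the augmentation of the base change -/
noncomputable def εK : K ⊗[R] A →ₐ[K] K :=
  Algebra.TensorProduct.lift (AlgHom.id K K) ((Algebra.ofId R K).comp ε) (fun _ _ => Commute.all _ _)

theorem εK_tmul (c : K) (a : A) : εK ε K (c ⊗ₜ a) = c * algebraMap R K (ε a) := by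
  simp [εK, Algebra.TensorProduct.lift_tmul, Algebra.ofId_apply]

theorem isNilpotent_sub_εK (h : ∀ a : A, ε a = 0 → IsNilpotent a) (z : K ⊗[R] A) :
    IsNilpotent (z - algebraMap K (K ⊗[R] A) (εK ε K z)) := by
  induction z using TensorProduct.induction_on with
  | zero => simp
  | add z z' hz hz' =>
    have h1 : z + z' - algebraMap K (K ⊗[R] A) (εK ε K (z + z')) =
        (z - algebraMap K (K ⊗[R] A) (εK ε K z)) + (z' - algebraMap K (K ⊗[R] A) (εK ε K z')) := by
      rw [map_add, map_add]; ring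
    rw [h1]
    exact (Commute.all _ _).isNilpotent_add hz hz'
  | tmul c a =>
    have h1 : c ⊗ₜ[R] a - algebraMap K (K ⊗[R] A) (εK ε K (c ⊗ₜ a)) =
        c ⊗ₜ[R] (a - algebraMap R A (ε a)) := by
      rw [εK_tmul, Algebra.TensorProduct.algebraMap_apply, TensorProduct.tmul_sub]
      congr 1
      rw [Algebra.algebraMap_eq_smul_one (A := A) (ε a), TensorProduct.tmul_smul, TensorProduct.smul_tmul',
        Algebra.smul_def (ε a) c, mul_comm]
      rfl
    rw [h1]
    obtain ⟨N, hN⟩ := h _ (sub_mem_ker ε a)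
    refine ⟨N, ?_⟩
    rw [Algebra.TensorProduct.tmul_pow, hN, TensorProduct.tmul_zero]

theorem isLocalRing_of_nil (h : ∀ a : A, ε a = 0 → IsNilpotent a) : IsLocalRing (K ⊗[R] A) := by
  haveI : Nontrivial (K ⊗[R] A) := by
    refine ⟨⟨0, 1, fun h01 => ?_⟩⟩
    have h1 := congrArg (εK ε K) h01
    rw [map_zero, map_one] at h1
    exact zero_ne_one h1
  apply IsLocalRing.of_isUnit_or_isUnit_one_sub_self
  intro z
  have hz := isNilpotent_sub_εK ε K h z
  by_cases h0 : εK ε K z = 0
  · right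
    rw [h0, map_zero, sub_zero] at hz
    exact hz.isUnit_one_sub
  · left
    have h1 : z = algebraMap K (K ⊗[R] A) (εK ε K z) + (z - algebraMap K (K ⊗[R] A) (εK ε K z)) := by ring
    rw [h1]
    have hu : IsUnit (algebraMap K (K ⊗[R] A) (εK ε K z)) := (isUnit_iff_ne_zero.2 h0).map _
    exact hz.isUnit_add_left_of_commute hu (Commute.all _ _)

end Fwd

section Bwd

variable {R : Type u} [CommRing R] {A : Type u} [CommRing A] [Algebra R A] (ε : A →ₐ[R] R)

theorem mem_prime_of_local
    (hloc : ∀ (K : Type u) [Field K] [IsAlgClosed K] [Algebra R K], IsLocalRing (K ⊗[R] A))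
    (q : Ideal A) [q.IsPrime] (a : A) (ha : ε a = 0) : a ∈ q := by
  let κ := q.ResidueField
  let K := AlgebraicClosure κ
  let g0 : A →+* K := (algebraMap κ K).comp (algebraMap A κ)
  letI : Algebra R K := (g0.comp (algebraMap R A)).toAlgebra
  let g : A →ₐ[R] K := { g0 with commutes' := fun r => rfl }
  haveI := hloc K
  let f₁ : K ⊗[R] A →ₐ[K] K :=
    Algebra.TensorProduct.lift (AlgHom.id K K) g (fun _ _ => Commute.all _ _)
  let f₂ : K ⊗[R] A →ₐ[K] K := εK ε K
  have hs₁ : Function.Surjective f₁ := fun c => ⟨c ⊗ₜ 1, by simp [f₁, Algebra.TensorProduct.lift_tmul]⟩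
  have hs₂ : Function.Surjective f₂ := fun c => ⟨c ⊗ₜ 1, by simp [f₂, εK_tmul]⟩
  have hm₁ : (RingHom.ker f₁.toRingHom).IsMaximal := RingHom.ker_isMaximal_of_surjective _ hs₁
  have hm₂ : (RingHom.ker f₂.toRingHom).IsMaximal := RingHom.ker_isMaximal_of_surjective _ hs₂
  have hk : RingHom.ker f₁.toRingHom = RingHom.ker f₂.toRingHom := by
    rw [IsLocalRing.eq_maximalIdeal hm₁, IsLocalRing.eq_maximalIdeal hm₂]
  have h2 : ((1 : K) ⊗ₜ[R] a) ∈ RingHom.ker f₂.toRingHom := by
    rw [RingHom.mem_ker]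
    change εK ε K ((1 : K) ⊗ₜ[R] a) = 0
    rw [εK_tmul, ha, map_zero, mul_zero]
  rw [← hk, RingHom.mem_ker] at h2
  have h3 : g a = 0 := by
    have : f₁ ((1 : K) ⊗ₜ[R] a) = g a := by simp [f₁, Algebra.TensorProduct.lift_tmul]
    rw [← this]; exact h2
  have h4 : algebraMap A κ a = 0 := by
    have h5 : (algebraMap κ K) (algebraMap A κ a) = 0 := h3
    exact (map_eq_zero_iff _ (algebraMap κ K).injective).1 h5
  exact (Ideal.algebraMap_residueField_eq_zero).1 h4

theorem isNilpotent_of_local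
    (hloc : ∀ (K : Type u) [Field K] [IsAlgClosed K] [Algebra R K], IsLocalRing (K ⊗[R] A))
    (a : A) (ha : ε a = 0) : a ∈ nilradical A := by
  rw [nilradical_eq_sInf, Ideal.mem_sInf]
  intro q hq
  haveI : q.IsPrime := hq
  exact mem_prime_of_local ε hloc q a ha

theorem exists_height_of_local (p : ℕ) (hp : 2 ≤ p) [IsNoetherianRing R] [Module.Finite R A]
    (hloc : ∀ (K : Type u) [Field K] [IsAlgClosed K] [Algebra R K], IsLocalRing (K ⊗[R] A)) :
    ∃ n : ℕ, ∀ a : A, ε a = 0 → a ^ p ^ n = 0 := by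
  haveI : IsNoetherianRing A := IsNoetherianRing.of_finite R A
  obtain ⟨N, hN⟩ := IsNoetherianRing.isNilpotent_nilradical A
  refine ⟨N, fun a ha => ?_⟩
  have h1 : a ^ N ∈ (nilradical A) ^ N := Ideal.pow_mem_pow (isNilpotent_of_local ε hloc a ha) N
  rw [hN] at h1
  have h2 : a ^ N = 0 := h1
  have h3 : N ≤ p ^ N := (Nat.lt_pow_self hp).le
  obtain ⟨m, hm⟩ := Nat.exists_eq_add_of_le h3
  rw [hm, pow_add, h2, zero_mul]

end Bwd

end Groth.Agent.Lib.Helper6.FrobHt
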